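import Mathlib
import Cfsg.Prelude.Def_Transfer

set_option autoImplicit false
set_option linter.unusedSectionVars false
set_option linter.unusedVariables false
open Cfsg
open scoped commutatorElement

namespace Cfsg.Agent.Extra3Torus

universe u

section Count

variable {K : Type*} [Field K] [IsAlgClosed K] {W : Type*} [Group W] [Finite W]

theorem mulVec_mul (M : W →* Matrix (Fin 2) (Fin 2) K) (a b : W) (v : Fin 2 → K) :
    (M (a * b)).mulVec v = (M a).mulVec ((M b).mulVec v) := by
  rw [map_mul, Matrix.mulVec_mulVec]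

theorem mulVec_inv (M : W →* Matrix (Fin 2) (Fin 2) K) (a : W) (v : Fin 2 → K) :
    (M a⁻¹).mulVec ((M a).mulVec v) = v := by
  rw [← mulVec_mul, inv_mul_cancel, map_one, Matrix.one_mulVec]

/-- The lines of the plane. -/
def Line (K : Type*) [Field K] : Type _ :=
  {L : Submodule K (Fin 2 → K) // ∃ v : Fin 2 → K, v ≠ 0 ∧ L = K ∙ v}

theorem map_span (M : W →* Matrix (Fin 2) (Fin 2) K) (g : W) (v : Fin 2 → K) :
    (K ∙ v).map (Matrix.mulVecLin (M g)) = K ∙ (M g).mulVec v := by
  rw [Submodule.map_span, Set.image_singleton]; rfl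

/-- The action of `W` on lines through `M`. -/
@[reducible] def lineAction (M : W →* Matrix (Fin 2) (Fin 2) K) : MulAction W (Line K) where
  smul g L := ⟨L.1.map (Matrix.mulVecLin (M g)), by
    obtain ⟨L, v, hv, rfl⟩ := L
    refine ⟨(M g).mulVec v, fun h => hv ?_, map_span M g v⟩
    rw [← mulVec_inv M g v, h, Matrix.mulVec_zero]⟩
  one_smul L := Subtype.ext (show L.1.map (Matrix.mulVecLin (M 1)) = L.1 by
    rw [map_one, Matrix.mulVecLin_one, Submodule.map_id])
  mul_smul a b L := Subtype.ext (show L.1.map (Matrix.mulVecLin (M (a * b))) = (L.1.map _).map _ by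
    rw [map_mul, Matrix.mulVecLin_mul, Submodule.map_comp])

theorem fixes_iff (M : W →* Matrix (Fin 2) (Fin 2) K) (g : W) {v : Fin 2 → K} (hv : v ≠ 0) :
    (K ∙ v).map (Matrix.mulVecLin (M g)) = K ∙ v ↔ ∃ c : K, (M g).mulVec v = c • v := by
  rw [map_span]
  constructor
  · intro h
    obtain ⟨c, hc⟩ := Submodule.mem_span_singleton.mp (h ▸ Submodule.mem_span_singleton_self ((M g).mulVec v))
    exact ⟨c, hc.symm⟩
  · rintro ⟨c, hc⟩
    rw [hc, Submodule.span_singleton_smul_eq]
    refine IsUnit.mk0 _ fun h => hv ?_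
    rw [← mulVec_inv M g v, hc, h, zero_smul, Matrix.mulVec_zero]

/-- The elements acting as scalars. -/
def scalars (M : W →* Matrix (Fin 2) (Fin 2) K) : Subgroup W where
  carrier := {g | ∃ c : K, ∀ v, (M g).mulVec v = c • v}
  one_mem' := ⟨1, fun v => by rw [map_one, Matrix.one_mulVec, one_smul]⟩
  mul_mem' := by
    rintro a b ⟨c, hc⟩ ⟨d, hd⟩
    exact ⟨c * d, fun v => by rw [mulVec_mul, hd, Matrix.mulVec_smul, hc, smul_smul, mul_comm d]⟩
  inv_mem' := by
    rintro a ⟨c, hc⟩
    refine ⟨c⁻¹, fun v => ?_⟩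
    rcases eq_or_ne c 0 with h | h
    · have : v = 0 := by rw [← mulVec_inv M a v, hc, h, zero_smul, Matrix.mulVec_zero]
      rw [this, Matrix.mulVec_zero, smul_zero]
    · conv_rhs => rw [← mulVec_inv M a v, hc, Matrix.mulVec_smul, smul_smul, inv_mul_cancel₀ h, one_smul]

variable {p : ℕ} [CharP K p]

/-- A nonscalar element of order prime to the characteristic has exactly two eigenlines. -/
theorem exists_two_lines (hW : (Nat.card W).Coprime p) (M : W →* Matrix (Fin 2) (Fin 2) K) {g : W}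
    (hg : g ∉ scalars M) : ∃ v w : Fin 2 → K, v ≠ 0 ∧ w ≠ 0 ∧ (K ∙ v) ≠ (K ∙ w) ∧
      (∃ c : K, (M g).mulVec v = c • v) ∧ (∃ c : K, (M g).mulVec w = c • w) ∧
      ∀ u : Fin 2 → K, u ≠ 0 → (∃ c : K, (M g).mulVec u = c • u) → (K ∙ u) = (K ∙ v) ∨ (K ∙ u) = (K ∙ w) := by
  obtain ⟨c, hc⟩ := Module.End.exists_eigenvalue (Matrix.mulVecLin (M g))
  obtain ⟨v, hv⟩ := hc.exists_hasEigenvector
  have hv0 : v ≠ 0 := hv.2
  have hvc : (M g).mulVec v = c • v := Module.End.mem_eigenspace_iff.mp hv.1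
  obtain ⟨u, hu⟩ : ∃ u, u ∉ K ∙ v := by
    by_contra! h
    have h1 : Module.finrank K (K ∙ v : Submodule K (Fin 2 → K)) = 1 := finrank_span_singleton hv0
    rw [Submodule.eq_top_iff'.mpr h, finrank_top, Module.finrank_fin_fun] at h1
    omega
  have hsup : (K ∙ v) ⊔ (K ∙ u) = ⊤ := by
    apply Submodule.eq_top_of_finrank_eq
    have hdis : (K ∙ v) ⊓ (K ∙ u) = ⊥ := by
      rw [Submodule.eq_bot_iff]
      rintro x ⟨hxv, hxu⟩
      obtain ⟨r, rfl⟩ := Submodule.mem_span_singleton.mp hxu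
      by_contra h
      exact hu ((Submodule.smul_mem_iff _ (fun h0 => h (by rw [h0, zero_smul]))).mp hxv)
    have h1 := Submodule.finrank_sup_add_finrank_inf_eq (K ∙ v) (K ∙ u)
    rw [hdis, finrank_bot, finrank_span_singleton hv0,
      finrank_span_singleton (fun h => hu (by rw [h]; exact zero_mem _))] at h1
    rw [Module.finrank_fin_fun]
    omega
  have hcomb : ∀ x : Fin 2 → K, ∃ r s : K, x = r • v + s • u := by
    intro x
    obtain ⟨y, hy, z, hz, rfl⟩ := Submodule.mem_sup.mp (hsup ▸ Submodule.mem_top : x ∈ (K ∙ v) ⊔ (K ∙ u))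
    obtain ⟨r, rfl⟩ := Submodule.mem_span_singleton.mp hy
    obtain ⟨s, rfl⟩ := Submodule.mem_span_singleton.mp hz
    exact ⟨r, s, rfl⟩
  obtain ⟨a, d, had⟩ := hcomb ((M g).mulVec u)
  -- the second eigenvalue is different
  have hdc : d ≠ c := by
    intro h
    subst h
    have hit : ∀ n : ℕ, (M (g ^ n)).mulVec v = d ^ n • v ∧
        d • (M (g ^ n)).mulVec u = ((n : K) * a * d ^ n) • v + d ^ (n + 1) • u := by
      intro n
      induction n with
      | zero => simp
      | succ n ih =>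
        refine ⟨by rw [pow_succ, mulVec_mul, hvc, Matrix.mulVec_smul, ih.1, smul_smul, pow_succ']; , ?_⟩
        rw [pow_succ, mulVec_mul, had, Matrix.mulVec_add, Matrix.mulVec_smul, Matrix.mulVec_smul, ih.1, smul_add,
          smul_smul, smul_smul]
        rw [ih.2]
        push_cast
        simp only [smul_add, smul_smul]
        rw [← add_assoc, ← add_smul]
        congr 2 <;> ring
    have hd0 : d ≠ 0 := fun h => hv0 (by rw [← mulVec_inv M g v, hvc, h, zero_smul, Matrix.mulVec_zero])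
    obtain ⟨hv1, hu1⟩ := hit (orderOf g)
    rw [pow_orderOf_eq_one, map_one, Matrix.one_mulVec] at hv1 hu1
    have hdn : d ^ orderOf g = 1 := by
      have h1 : (d ^ orderOf g - 1) • v = 0 := by rw [sub_smul, one_smul, ← hv1, sub_self]
      exact sub_eq_zero.mp ((smul_eq_zero.mp h1).resolve_right hv0)
    rw [hdn, mul_one, pow_succ, hdn, one_mul, right_eq_add, smul_eq_zero] at hu1
    have hn0 : (orderOf g : K) ≠ 0 := by
      rw [Ne, CharP.cast_eq_zero_iff K p]
      intro h
      have hp1 : p = 1 := Nat.eq_one_of_dvd_coprimes hW (h.trans (orderOf_dvd_natCard g)) (dvd_refl p)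
      exact CharP.char_ne_one K p hp1
    have ha : a = 0 := (mul_eq_zero.mp (hu1.resolve_right hv0)).resolve_left hn0
    refine hg ⟨d, fun x => ?_⟩
    obtain ⟨r, s, rfl⟩ := hcomb x
    rw [Matrix.mulVec_add, Matrix.mulVec_smul, Matrix.mulVec_smul, hvc, had, ha, zero_smul, zero_add, smul_add,
      smul_comm r, smul_comm s]
  set w := u + (a / (d - c)) • v with hw
  have hdc' : d - c ≠ 0 := sub_ne_zero.mpr hdc
  have hwd : (M g).mulVec w = d • w := by
    rw [hw, Matrix.mulVec_add, Matrix.mulVec_smul, had, hvc, smul_add, smul_smul, smul_smul]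
    rw [add_right_comm, ← add_smul, add_comm]
    congr 2
    field_simp
    ring
  have hw0 : w ∉ K ∙ v := fun h => hu (by
    have : u = w - (a / (d - c)) • v := by rw [hw, add_sub_cancel_right]
    rw [this]
    exact sub_mem h (Submodule.smul_mem _ _ (Submodule.mem_span_singleton_self v)))
  refine ⟨v, w, hv0, fun h => hw0 (by rw [h]; exact zero_mem _), fun h => hw0 (h ▸ Submodule.mem_span_singleton_self w),
    ⟨c, hvc⟩, ⟨d, hwd⟩, fun x hx ⟨e, he⟩ => ?_⟩
  obtain ⟨r, s, hrs⟩ := hcomb x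
  have hx' : x = (r - s * (a / (d - c))) • v + s • w := by
    rw [hrs, hw, smul_add, smul_smul, sub_smul]; abel
  set r' := r - s * (a / (d - c))
  rw [hx', Matrix.mulVec_add, Matrix.mulVec_smul, Matrix.mulVec_smul, hvc, hwd, smul_add] at he
  have h1 : (r' * c - e * r') • v = (e * s - s * d) • w := by
    linear_combination (norm := module) he
  have hs2 : e * s - s * d = 0 := by
    by_contra h
    exact hw0 ((Submodule.smul_mem_iff _ h).mp (h1 ▸ Submodule.smul_mem _ _ (Submodule.mem_span_singleton_self v)))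
  rw [hs2, zero_smul, smul_eq_zero] at h1
  have hr2 : r' * c - e * r' = 0 := h1.resolve_right hv0
  by_cases hs : s = 0
  · left
    rw [hx', hs, zero_smul, add_zero]
    exact Submodule.span_singleton_smul_eq (IsUnit.mk0 _ fun h => hx (by rw [hx', hs, h, zero_smul, zero_smul, add_zero])) v
  · right
    have hed : e = d := by
      have : s * (e - d) = 0 := by linear_combination hs2
      exact sub_eq_zero.mp ((mul_eq_zero.mp this).resolve_left hs)
    have hr : r' = 0 := by
      have h3 : r' * (d - c) = 0 := by rw [← hed]; linear_combination -hr2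
      exact (mul_eq_zero.mp h3).resolve_right hdc'
    rw [hx', hr, zero_smul, zero_add]
    exact Submodule.span_singleton_smul_eq (IsUnit.mk0 _ hs) w

set_option maxHeartbeats 1000000 in
/-- Few lines have stabilizers with many scalar classes. -/
theorem false_of_lines (hW : (Nat.card W).Coprime p) (M : W →* Matrix (Fin 2) (Fin 2) K)
    {n m : ℕ} (hnm : 6 ≤ m ∧ 3 ≤ n ∨ 4 ≤ m ∧ 14 ≤ n) (x : Fin n → Fin 2 → K) (hx : ∀ i, x i ≠ 0) (hinj : Function.Injective fun i => (K ∙ x i))
    (σ : Fin n → W) (hσ : ∀ i, ∃ c : K, (M (σ i)).mulVec (x i) = c • x i)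
    (hord : ∀ i, ∀ k : ℕ, 0 < k → k < m → σ i ^ k ∉ scalars M) : False := by
  classical
  letI := lineAction M
  haveI := Fintype.ofFinite W
  set S := scalars M with hS
  let X : Set (Line K) := {L | ∃ g : W, g ∉ S ∧ g • L = L}
  have hsmulX : ∀ (g : W) (L : Line K), L ∈ X → g • L ∈ X := by
    rintro g L ⟨h, hh, hL⟩
    refine ⟨g * h * g⁻¹, fun hc => hh ?_, by rw [mul_smul, inv_smul_smul, mul_smul, hL]⟩
    obtain ⟨c, hc⟩ := hc
    refine ⟨c, fun v => ?_⟩
    have h1 := hc ((M g).mulVec v)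
    rw [mul_assoc, mulVec_mul, mulVec_mul, mulVec_inv, ← Matrix.mulVec_smul] at h1
    have h2 := congrArg (M g⁻¹).mulVec h1
    rwa [mulVec_inv, mulVec_inv] at h2
  choose v w hv0 hw0 hvw hev hew huniq using fun g : {g : W // g ∉ S} => exists_two_lines hW M g.2
  let lv : {g : W // g ∉ S} → Line K := fun g => ⟨K ∙ v g, v g, hv0 g, rfl⟩
  let lw : {g : W // g ∉ S} → Line K := fun g => ⟨K ∙ w g, w g, hw0 g, rfl⟩
  have hlv : ∀ g : {g : W // g ∉ S}, (g : W) • lv g = lv g := fun g => Subtype.ext ((fixes_iff M g.1 (hv0 g)).mpr (hev g))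
  have hlw : ∀ g : {g : W // g ∉ S}, (g : W) • lw g = lw g := fun g => Subtype.ext ((fixes_iff M g.1 (hw0 g)).mpr (hew g))
  have hfix : ∀ (g : {g : W // g ∉ S}) (L : Line K), (g : W) • L = L → L = lv g ∨ L = lw g := by
    rintro g ⟨L, u, hu, rfl⟩ h
    rcases huniq g u hu ((fixes_iff M g.1 hu).mp (congrArg Subtype.val h)) with e | e
    · exact Or.inl (Subtype.ext e)
    · exact Or.inr (Subtype.ext e)
  have hXfin : X.Finite := by
    refine ((Set.finite_range lv).union (Set.finite_range lw)).subset ?_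
    rintro L ⟨g, hg, hL⟩
    rcases hfix ⟨g, hg⟩ L hL with e | e
    · exact Or.inl ⟨_, e.symm⟩
    · exact Or.inr ⟨_, e.symm⟩
  haveI : Fintype X := hXfin.fintype
  letI : MulAction W X :=
    { smul := fun g L => ⟨g • L.1, hsmulX g L.1 L.2⟩
      one_smul := fun L => Subtype.ext (one_smul W L.1)
      mul_smul := fun a b L => Subtype.ext (mul_smul a b L.1) }
  -- scalars fix every line
  have hSfix : ∀ g ∈ S, ∀ L : X, g • L = L := by
    rintro g ⟨c, hc⟩ ⟨⟨L, u, hu, rfl⟩, hL⟩
    exact Subtype.ext (Subtype.ext ((fixes_iff M g hu).mpr ⟨c, hc u⟩))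
  have hfixcard : ∀ g : W, Fintype.card (MulAction.fixedBy X g) = if g ∈ S then Fintype.card X else 2 := by
    intro g
    split_ifs with hg
    · exact Fintype.card_congr (Equiv.subtypeUnivEquiv fun L => hSfix g hg L)
    · let a : X := ⟨lv ⟨g, hg⟩, g, hg, hlv ⟨g, hg⟩⟩
      let b : X := ⟨lw ⟨g, hg⟩, g, hg, hlw ⟨g, hg⟩⟩
      have hab : a ≠ b := fun e => hvw ⟨g, hg⟩ (congrArg (fun L : X => L.1.1) e)
      have heq : MulAction.fixedBy X g = ({a, b} : Set X) := by
        ext L
        constructor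
        · intro h
          rcases hfix ⟨g, hg⟩ L.1 (congrArg Subtype.val h) with e | e
          · exact Or.inl (Subtype.ext e)
          · exact Or.inr (Subtype.ext e)
        · rintro (rfl | rfl)
          exacts [Subtype.ext (hlv ⟨g, hg⟩), Subtype.ext (hlw ⟨g, hg⟩)]
      rw [← Nat.card_eq_fintype_card, Nat.card_congr (Equiv.setCongr heq), Nat.card_coe_set_eq, Set.ncard_pair hab]
  have hburn := MulAction.sum_card_fixedBy_eq_card_orbits_mul_card_group W X
  simp only [hfixcard] at hburn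
  rw [Finset.sum_ite, Finset.sum_const, Finset.sum_const, smul_eq_mul, smul_eq_mul] at hburn
  set s := Nat.card S with hs
  obtain ⟨N, hN⟩ : s ∣ Nat.card W := Subgroup.card_subgroup_dvd_card S
  have hs0 : 0 < s := Nat.card_pos
  have hfs : (Finset.univ.filter (fun g => g ∈ S)).card = s := by
    rw [hs, Nat.card_eq_fintype_card, Fintype.card_subtype]
  have hfns : (Finset.univ.filter (fun g => g ∉ S)).card = s * (N - 1) := by
    have := Finset.card_filter_add_card_filter_not (s := (Finset.univ : Finset W)) (fun g => g ∈ S)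
    rw [Finset.card_univ, hfs, ← Nat.card_eq_fintype_card, hN] at this
    rw [Nat.mul_sub, mul_one]
    omega
  rw [hfs, hfns, ← Nat.card_eq_fintype_card (α := W), hN] at hburn
  set r := Fintype.card (Quotient (MulAction.orbitRel W X)) with hr
  have hmain : Fintype.card X + 2 * (N - 1) = r * N := by
    refine Nat.eq_of_mul_eq_mul_left hs0 ?_
    linarith [hburn]
  -- orbit sizes
  have horb : ∀ (L : X) (m : ℕ) (g : W), g • L = L → (∀ k, 0 < k → k < m → g ^ k ∉ S) →
      ∃ e, m ≤ e ∧ Nat.card (MulAction.orbit W L) * e = N := by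
    intro L m g hgL hgk
    have hle : S ≤ MulAction.stabilizer W L := fun z hz => hSfix z hz L
    obtain ⟨e, he⟩ := Subgroup.card_dvd_of_le hle
    have h1 := (MulAction.stabilizer W L).card_mul_index
    rw [MulAction.index_stabilizer, ← Nat.card_coe_set_eq, he, hN] at h1
    refine ⟨e, ?_, Nat.eq_of_mul_eq_mul_left hs0 (by linarith [h1])⟩
    refine le_of_mul_le_mul_left ?_ hs0
    rw [← he, mul_comm]
    have hcard := Nat.card_le_card_of_injective
      (fun q : Fin m × S => (⟨g ^ (q.1 : ℕ) * q.2, mul_mem (pow_mem hgL _) (hle q.2.2)⟩ : MulAction.stabilizer W L)) ?_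
    · rwa [Nat.card_prod, Nat.card_fin] at hcard
    rintro ⟨i, z⟩ ⟨j, z'⟩ h
    have h' : g ^ (i : ℕ) * (z : W) = g ^ (j : ℕ) * z' := congrArg Subtype.val h
    have key : ∀ (i j : Fin m) (z z' : S), g ^ (i : ℕ) * (z : W) = g ^ (j : ℕ) * z' → ¬ (i : ℕ) < (j : ℕ) := by
      intro i j z z' h hlt
      refine hgk ((j : ℕ) - (i : ℕ)) (by omega) (by omega) ?_
      have e1 : g ^ ((j : ℕ) - (i : ℕ)) = (z : W) * (z' : W)⁻¹ := by
        rw [eq_mul_inv_iff_mul_eq]
        apply mul_left_cancel (a := g ^ (i : ℕ))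
        rw [h, ← mul_assoc, ← pow_add]
        congr 2
        omega
      rw [e1]; exact mul_mem z.2 (inv_mem z'.2)
    have hij : (i : ℕ) = (j : ℕ) := le_antisymm (not_lt.mp (key j i z' z h'.symm)) (not_lt.mp (key i j z z' h'))
    have : i = j := Fin.ext hij
    subst this
    have : z = z' := Subtype.ext (mul_left_cancel h')
    subst this; rfl
  -- the three lines
  let y : Fin n → X := fun i => ⟨⟨K ∙ x i, x i, hx i, rfl⟩, σ i, by simpa using hord i 1 one_pos (by omega),
    Subtype.ext ((fixes_iff M (σ i) (hx i)).mpr (hσ i))⟩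
  have hyinj : Function.Injective y := fun i j h => hinj (congrArg (fun L : X => L.1.1) h)
  have hy6 : ∀ i, ∃ e, m ≤ e ∧ Nat.card (MulAction.orbit W (y i)) * e = N := fun i =>
    horb (y i) m (σ i) (Subtype.ext (Subtype.ext ((fixes_iff M (σ i) (hx i)).mpr (hσ i)))) (hord i)
  have h3 : 3 ≤ Fintype.card X := by
    have := Fintype.card_le_of_injective y hyinj
    rw [Fintype.card_fin] at this
    omega
  have hN1 : 0 < N := Nat.pos_of_ne_zero fun h => by rw [h, mul_zero] at hN; exact Nat.card_pos.ne' hN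
  let osize : Quotient (MulAction.orbitRel W X) → ℕ := fun q => Nat.card (MulAction.orbit W q.out)
  have hsum : Fintype.card X = ∑ q, osize q := by
    rw [← Nat.card_eq_fintype_card, Nat.card_congr (MulAction.selfEquivSigmaOrbits W X), Nat.card_sigma]
  have hhalf : ∀ q, ∃ e, 2 ≤ e ∧ osize q * e = N := fun q => by
    obtain ⟨g, hg, hgL⟩ := q.out.2
    exact horb q.out 2 g (Subtype.ext hgL) fun k h0 h2 => by
      rw [show k = 1 by omega, pow_one]; exact hg
  have hor : ∀ i, osize (Quotient.mk'' (y i)) = Nat.card (MulAction.orbit W (y i)) := fun i => by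
    have h : (Quotient.mk'' (y i) : Quotient (MulAction.orbitRel W X)).out ∈ MulAction.orbit W (y i) :=
      Quotient.mk_out (s := MulAction.orbitRel W X) (y i)
    exact congrArg (fun s : Set X => Nat.card s) (MulAction.orbit_eq_iff.mpr h)
  have hle : 2 * ∑ q, osize q ≤ r * N := by
    rw [Finset.mul_sum, hr, ← Finset.card_univ, ← smul_eq_mul, ← Finset.sum_const]
    refine Finset.sum_le_sum fun q _ => ?_
    obtain ⟨e, he, heq⟩ := hhalf q
    rw [← heq, mul_comm 2]
    exact Nat.mul_le_mul_left _ he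
  rw [← hsum] at hle
  have hr3 : r = 3 := by
    have h1 : r ≤ 3 := by
      by_contra h
      have h4 : 4 * N ≤ r * N := Nat.mul_le_mul_right N (by omega)
      omega
    by_contra h
    have h2 : r * N ≤ 2 * N := Nat.mul_le_mul_right N (by omega)
    omega
  rw [hr3] at hmain
  let i0 : Fin n := ⟨0, by omega⟩
  set q0 : Quotient (MulAction.orbitRel W X) := Quotient.mk'' (y i0) with hq0
  obtain ⟨q1, q2, h01, h02, h12, huniv⟩ : ∃ q1 q2, q0 ≠ q1 ∧ q0 ≠ q2 ∧ q1 ≠ q2 ∧
      (Finset.univ : Finset (Quotient (MulAction.orbitRel W X))) = {q0, q1, q2} := by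
    have hcard : (Finset.univ.erase q0).card = 2 := by
      rw [Finset.card_erase_of_mem (Finset.mem_univ _), Finset.card_univ, ← hr, hr3]
    obtain ⟨q1, q2, h12, he⟩ := Finset.card_eq_two.mp hcard
    refine ⟨q1, q2, ?_, ?_, h12, ?_⟩
    · exact fun h => by simpa [h] using (he ▸ Finset.mem_insert_self q1 {q2} : q1 ∈ Finset.univ.erase q0)
    · exact fun h => by
        simpa [h] using (he ▸ Finset.mem_insert_of_mem (Finset.mem_singleton_self q2) : q2 ∈ Finset.univ.erase q0)
    · rw [← he, Finset.insert_erase (Finset.mem_univ _)]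
  rw [hsum, huniv, Finset.sum_insert (by simp [h01, h02]), Finset.sum_insert (by simp [h12]), Finset.sum_singleton] at hmain
  obtain ⟨e0, he0, he0'⟩ := hy6 i0
  rw [← hor i0] at he0'
  obtain ⟨e1, he1, he1'⟩ := hhalf q1
  obtain ⟨e2, he2, he2'⟩ := hhalf q2
  change osize q0 * e0 = N at he0'
  have hfour : ∀ i, 4 * osize (Quotient.mk'' (y i)) ≤ N := fun i => by
    obtain ⟨e, he, heq⟩ := hy6 i
    rw [hor, ← heq, mul_comm 4]
    exact Nat.mul_le_mul_left _ (by omega)
  have b0 : 4 * osize q0 ≤ N := hfour i0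
  have hb : ∀ (n e : ℕ), 2 ≤ e → n * e = N → 2 * n = N ∨ 3 * n = N ∨ 4 * n ≤ N := fun n e he hn => by
    rcases Nat.lt_or_ge e 4 with h | h
    · interval_cases e <;> omega
    · right; right; rw [← hn, mul_comm 4]; exact Nat.mul_le_mul_left _ h
  have b1 := hb _ _ he1 he1'
  have b2 := hb _ _ he2 he2'
  have hq : ∀ i, Quotient.mk'' (y i) = q0 := by
    intro i
    by_contra hne
    have hi := hfour i
    have : Quotient.mk'' (y i) ∈ ({q0, q1, q2} : Finset (Quotient (MulAction.orbitRel W X))) := huniv ▸ Finset.mem_univ _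
    simp only [Finset.mem_insert, Finset.mem_singleton] at this
    rcases this with h | h | h
    · exact hne h
    · rw [h] at hi; omega
    · rw [h] at hi; omega
  have hq3 : n ≤ osize q0 := by
    have hmem : ∀ i, y i ∈ MulAction.orbit W q0.out := fun i => by
      have h : q0.out ∈ MulAction.orbit W (y i) := Quotient.exact (s := MulAction.orbitRel W X) ((Quotient.out_eq q0).trans (hq i).symm)
      rw [MulAction.orbit_eq_iff.mpr h]
      exact MulAction.mem_orbit_self _
    have := Nat.card_le_card_of_injective (fun i => (⟨y i, hmem i⟩ : MulAction.orbit W q0.out))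
      fun i j h => hyinj (congrArg Subtype.val h)
    rwa [Nat.card_fin] at this
  rcases Nat.lt_or_ge e0 6 with h | h
  · interval_cases e0 <;> omega
  · have b6 : 6 * osize q0 ≤ N := by rw [← he0', mul_comm 6]; exact Nat.mul_le_mul_left _ h
    omega

end Count

section Group

variable {G : Type*} [Group G] {p : ℕ} [hp : Fact p.Prime]

theorem pow_eq_of_cast_eq {x : G} (hx : x ^ p = 1) {m n : ℕ} (h : (m : ZMod p) = n) : x ^ m = x ^ n := by
  rw [pow_eq_pow_iff_modEq]
  exact ((ZMod.natCast_eq_natCast_iff _ _ _).mp h).of_dvd (orderOf_dvd_of_pow_eq_one hx)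

/-- Exponentiation by residues. -/
def powHom (x : G) (hx : x ^ p = 1) : Multiplicative (ZMod p) →* G where
  toFun i := x ^ (Multiplicative.toAdd i).val
  map_one' := by simp
  map_mul' i j := by
    rw [← pow_add]
    exact pow_eq_of_cast_eq hx (by simp)

theorem comm_pow_formula {a x c : G} (h : a * x = c * (x * a)) (ha : c * a = a * c) (hx : c * x = x * c) (i j : ℕ) :
    a ^ i * x ^ j = c ^ (i * j) * (x ^ j * a ^ i) := by
  have hcx : ∀ m n : ℕ, c ^ m * x ^ n = x ^ n * c ^ m := fun m n => ((show Commute c x from hx).pow_pow m n).eq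
  have hca : ∀ m n : ℕ, c ^ m * a ^ n = a ^ n * c ^ m := fun m n => ((show Commute c a from ha).pow_pow m n).eq
  have h1 : ∀ n : ℕ, a * x ^ n = c ^ n * (x ^ n * a) := by
    intro n
    induction n with
    | zero => simp
    | succ n ih =>
      calc a * x ^ (n + 1) = a * x ^ n * x := by rw [pow_succ, mul_assoc]
        _ = c ^ n * (x ^ n * (a * x)) := by rw [ih]; simp only [mul_assoc]
        _ = c ^ n * (x ^ n * c ^ 1) * (x * a) := by rw [h, pow_one]; simp only [mul_assoc]
        _ = c ^ n * (c ^ 1 * x ^ n) * (x * a) := by rw [hcx]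
        _ = _ := by rw [pow_one, pow_succ, pow_succ]; simp only [mul_assoc]
  induction i with
  | zero => simp
  | succ i ih =>
    calc a ^ (i + 1) * x ^ j = a * (a ^ i * x ^ j) := by rw [pow_succ', mul_assoc]
      _ = a ^ 1 * c ^ (i * j) * (x ^ j * a ^ i) := by rw [ih, pow_one, mul_assoc]
      _ = c ^ (i * j) * (a * x ^ j * a ^ i) := by rw [← hca, pow_one]; simp only [mul_assoc]
      _ = c ^ (i * j) * c ^ j * (x ^ j * (a * a ^ i)) := by rw [h1]; simp only [mul_assoc]
      _ = _ := by rw [← pow_add, ← pow_succ', Nat.succ_mul]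

/-- Coordinates on a subgroup of order `p²`. -/
theorem exists_coords [Finite G] {A : Subgroup G} (hAcard : Nat.card A = p ^ 2) {z a : G} (hzp : z ^ p = 1) (hap : a ^ p = 1)
    (hzA : z ∈ A) (haA : a ∈ A) (hz1 : z ≠ 1) (hna : a ∉ Subgroup.zpowers z) (hAc : a * z = z * a) :
    ∃ E : Multiplicative (ZMod p × ZMod p) ≃* A, ∀ i j : ZMod p,
      ((E (Multiplicative.ofAdd (i, j)) : A) : G) = z ^ i.val * a ^ j.val := by
  classical
  let e0 : Multiplicative (ZMod p × ZMod p) →* G :=
    { toFun := fun q => powHom z hzp (Multiplicative.ofAdd (Multiplicative.toAdd q).1) *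
        powHom a hap (Multiplicative.ofAdd (Multiplicative.toAdd q).2)
      map_one' := by simp
      map_mul' := fun q r => by
        simp only [toAdd_mul, Prod.fst_add, Prod.snd_add, ofAdd_add, map_mul]
        have hc : Commute (powHom z hzp (Multiplicative.ofAdd (Multiplicative.toAdd r).1))
            (powHom a hap (Multiplicative.ofAdd (Multiplicative.toAdd q).2)) :=
          (show Commute z a from hAc.symm).pow_pow _ _
        exact hc.mul_mul_mul_comm _ _ }
  have hinj : Function.Injective e0 := by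
    rw [injective_iff_map_eq_one]
    intro q hq
    obtain ⟨i, j⟩ := q
    change z ^ i.val * a ^ j.val = 1 at hq
    have hj : j = 0 := by
      by_contra hj
      apply hna
      have hmem : a ^ j.val ∈ Subgroup.zpowers z := by
        rw [eq_inv_of_mul_eq_one_right hq]
        exact inv_mem (pow_mem (Subgroup.mem_zpowers z) _)
      have hcop : j.val.Coprime (orderOf a) := by
        refine Nat.Coprime.coprime_dvd_right (orderOf_dvd_of_pow_eq_one hap) ?_
        exact (ZMod.val_coe_unit_coprime (Units.mk0 j hj))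
      obtain ⟨m, hm⟩ := exists_pow_eq_self_of_coprime hcop
      exact hm ▸ pow_mem hmem m
    subst hj
    rw [ZMod.val_zero, pow_zero, mul_one] at hq
    have hzo : orderOf z = p := orderOf_eq_prime hzp hz1
    have : i.val = 0 := Nat.eq_zero_of_dvd_of_lt (hzo.symm.dvd.trans (orderOf_dvd_of_pow_eq_one hq)) (ZMod.val_lt i)
    rw [ZMod.val_eq_zero] at this
    subst this
    rfl
  have hr : ∀ q, e0 q ∈ A := fun q => mul_mem (pow_mem hzA _) (pow_mem haA _)
  let e : Multiplicative (ZMod p × ZMod p) →* A := e0.codRestrict A hr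
  have hei : Function.Injective e := fun q r h => hinj (congrArg Subtype.val h)
  have hbij : Function.Bijective e := (Nat.bijective_iff_injective_and_card e).mpr ⟨hei, by
    rw [hAcard, Nat.card_congr Multiplicative.toAdd, Nat.card_prod, Nat.card_zmod, pow_two]⟩
  let E := MulEquiv.ofBijective e hbij
  exact ⟨E, fun i j => rfl⟩

/-- The element inducing the diagonal automorphism. -/
theorem exists_torus [Finite G] (P : Sylow p G) {A : Subgroup G} (hAP : A ≤ (P : Subgroup G))
    (hAcard : Nat.card A = p ^ 2) (hexp : ∀ q ∈ (P : Subgroup G), q ^ p = 1) {z a : G}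
    (hzA : z ∈ A) (haA : a ∈ A) (hz1 : z ≠ 1) (hna : a ∉ Subgroup.zpowers z)
    (hzP : ∀ q ∈ (P : Subgroup G), q * z = z * q)
    (hPP : ∀ q ∈ (P : Subgroup G), ∀ r ∈ (P : Subgroup G), ⁅q, r⁆ ∈ Subgroup.zpowers z)
    (hAc : a * z = z * a)
    (hSz : ∀ s : ZMod p, ∃ g : G, g * z * g⁻¹ = z ∧ g * a * g⁻¹ = a * z ^ s.val)
    (hSa : ∀ s : ZMod p, ∃ g : G, g * a * g⁻¹ = a ∧ g * z * g⁻¹ = z * a ^ s.val)
    {u : ZMod p} (hu : u ≠ 0) :
    ∃ n ∈ Subgroup.normalizer ((P : Subgroup G) : Set G), n * z * n⁻¹ = z ^ u.val ∧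
      (a ^ u⁻¹.val)⁻¹ * (n * a * n⁻¹) ∈ Subgroup.zpowers z := by
  classical
  have hzp := hexp z (hAP hzA)
  have hap := hexp a (hAP haA)
  obtain ⟨E, hE⟩ := exists_coords hAcard hzp hap hzA haA hz1 hna hAc
  let e0 : Multiplicative (ZMod p × ZMod p) →* G := A.subtype.comp E.toMonoidHom
  have he0 : ∀ i j : ZMod p, e0 (Multiplicative.ofAdd (i, j)) = z ^ i.val * a ^ j.val := hE
  have hr : ∀ q, e0 q ∈ A := fun q => (E q).2
  have hbij : Function.Bijective E := E.bijective
  -- the maps induced by `G`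
  let T : (ZMod p × ZMod p → ZMod p × ZMod p) → Prop :=
    fun f => ∃ g : G, ∀ q, g * e0 (Multiplicative.ofAdd q) * g⁻¹ = e0 (Multiplicative.ofAdd (f q))
  have hcomp : ∀ f f', T f → T f' → T (f ∘ f') := by
    rintro f f' ⟨g, hg⟩ ⟨g', hg'⟩
    refine ⟨g * g', fun q => ?_⟩
    rw [Function.comp_apply, ← hg, ← hg']
    group
  let U : ZMod p → AddAut (ZMod p × ZMod p) := fun s =>
    { toFun := fun q => (q.1 + s * q.2, q.2)
      invFun := fun q => (q.1 - s * q.2, q.2)
      left_inv := fun q => by simp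
      right_inv := fun q => by simp
      map_add' := fun q r => by simp [mul_add]; ring }
  let L : ZMod p → AddAut (ZMod p × ZMod p) := fun s =>
    { toFun := fun q => (q.1, q.2 + s * q.1)
      invFun := fun q => (q.1, q.2 - s * q.1)
      left_inv := fun q => by simp
      right_inv := fun q => by simp
      map_add' := fun q r => by simp [mul_add]; ring }
  have hza : ∀ k l : ℕ, (z ^ k) ^ l = z ^ (k * l) ∧ (a ^ k) ^ l = a ^ (k * l) := fun k l => ⟨(pow_mul _ _ _).symm, (pow_mul _ _ _).symm⟩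
  have hU : ∀ s, T (U s) := fun s => by
    obtain ⟨g, hgz, hga⟩ := hSz s
    refine ⟨g, fun ⟨i, j⟩ => ?_⟩
    rw [he0, show (U s) (i, j) = (i + s * j, j) from rfl, he0,
      show g * (z ^ i.val * a ^ j.val) * g⁻¹ = (g * z ^ i.val * g⁻¹) * (g * a ^ j.val * g⁻¹) by group,
      ← conj_pow, ← conj_pow, hgz, hga, ((show Commute a z from hAc).pow_right _).mul_pow, ← pow_mul,
      ((show Commute a z from hAc).pow_pow _ _).eq, ← mul_assoc, ← pow_add]
    congr 1
    exact pow_eq_of_cast_eq hzp (by simp)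
  have hL : ∀ s, T (L s) := fun s => by
    obtain ⟨g, hga, hgz⟩ := hSa s
    refine ⟨g, fun ⟨i, j⟩ => ?_⟩
    rw [he0, show (L s) (i, j) = (i, j + s * i) from rfl, he0,
      show g * (z ^ i.val * a ^ j.val) * g⁻¹ = (g * z ^ i.val * g⁻¹) * (g * a ^ j.val * g⁻¹) by group,
      ← conj_pow, ← conj_pow, hgz, hga, ((show Commute z a from hAc.symm).pow_right _).mul_pow, ← pow_mul, mul_assoc, ← pow_add]
    congr 1
    exact pow_eq_of_cast_eq hap (by simp; ring)
  obtain ⟨g, hg⟩ := hcomp _ _ (hcomp _ _ (hcomp _ _ (hU u) (hL (-u⁻¹))) (hU u))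
    (hcomp _ _ (hcomp _ _ (hU (-1)) (hL 1)) (hU (-1)))
  have hgd : ∀ i j : ZMod p, g * e0 (Multiplicative.ofAdd (i, j)) * g⁻¹ = e0 (Multiplicative.ofAdd (u * i, u⁻¹ * j)) := by
    intro i j
    rw [hg]
    congr 2
    simp only [Function.comp_apply, U, L, AddEquiv.coe_mk, Equiv.coe_fn_mk, Prod.mk.injEq]
    constructor <;> field_simp <;> ring
  haveI : Fact (1 < p) := ⟨hp.out.one_lt⟩
  have ez : g * z * g⁻¹ = z ^ u.val := by
    have := hgd 1 0
    simpa [he0, ZMod.val_one] using this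
  have ea : g * a * g⁻¹ = a ^ u⁻¹.val := by
    have := hgd 0 1
    simpa [he0, ZMod.val_one] using this
  -- the stabiliser of the flag, trivial on its factors
  let Y : Subgroup G :=
    { carrier := {y | y * z * y⁻¹ = z ∧ ∀ q ∈ A, q⁻¹ * (y * q * y⁻¹) ∈ Subgroup.zpowers z}
      one_mem' := ⟨by group, fun q _ => by simp⟩
      mul_mem' := by
        rintro y y' ⟨hy, hy2⟩ ⟨hy', hy2'⟩
        refine ⟨by rw [show y * y' * z * (y * y')⁻¹ = y * (y' * z * y'⁻¹) * y⁻¹ by group, hy', hy], fun q hq => ?_⟩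
        obtain ⟨k, hk⟩ := Subgroup.mem_zpowers_iff.mp (hy2' q hq)
        rw [show q⁻¹ * (y * y' * q * (y * y')⁻¹) = q⁻¹ * (y * q * y⁻¹) * (y * (q⁻¹ * (y' * q * y'⁻¹)) * y⁻¹) by group,
          ← hk, ← conj_zpow, hy]
        exact mul_mem (hy2 q hq) (zpow_mem (Subgroup.mem_zpowers z) k)
      inv_mem' := by
        rintro y ⟨hy, hy2⟩
        have hy' : y⁻¹ * z * y⁻¹⁻¹ = z := by conv_lhs => rw [← hy]
                                             group
        refine ⟨hy', fun q hq => ?_⟩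
        obtain ⟨k, hk⟩ := Subgroup.mem_zpowers_iff.mp (hy2 q hq)
        have h1 : y⁻¹ * (q⁻¹ * (y * q * y⁻¹)) * y⁻¹⁻¹ = z ^ k := by rw [← hk, ← conj_zpow, hy']
        have h2 : q⁻¹ * (y⁻¹ * q * y⁻¹⁻¹) = (z ^ k)⁻¹ := by rw [← h1]; group
        rw [h2]
        exact inv_mem (zpow_mem (Subgroup.mem_zpowers z) k) }
  have hPY : (P : Subgroup G) ≤ Y := fun y hy => ⟨by rw [hzP y hy]; group, fun q hq => by
    rw [show q⁻¹ * (y * q * y⁻¹) = ⁅q⁻¹, y⁆ by rw [commutatorElement_def]; group]
    exact hPP _ (inv_mem (hAP hq)) _ hy⟩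
  have hPg : ((g • P : Sylow p G) : Subgroup G) ≤ Y := by
    rw [Sylow.coe_subgroup_smul]
    rintro _ ⟨y, hy, rfl⟩
    show g * y * g⁻¹ ∈ Y
    obtain ⟨hy1, hy2⟩ := hPY hy
    have hconj : ∀ w ∈ Subgroup.zpowers z, g * w * g⁻¹ ∈ Subgroup.zpowers z := by
      intro w hw
      obtain ⟨k, rfl⟩ := Subgroup.mem_zpowers_iff.mp hw
      rw [← conj_zpow, ez]
      exact zpow_mem (pow_mem (Subgroup.mem_zpowers z) _) k
    refine ⟨?_, fun q hq => ?_⟩
    · have h1 : g * (y * z * y⁻¹) * g⁻¹ = g * z * g⁻¹ := by rw [hy1]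
      have h2 : g * y * g⁻¹ * (g * z * g⁻¹) * (g * y * g⁻¹)⁻¹ = g * z * g⁻¹ := by
        rw [show g * y * g⁻¹ * (g * z * g⁻¹) * (g * y * g⁻¹)⁻¹ = g * (y * z * y⁻¹) * g⁻¹ by group, h1]
      rw [ez] at h2
      have hcop : u.val.Coprime (orderOf z) :=
        (ZMod.val_coe_unit_coprime (Units.mk0 u hu)).coprime_dvd_right (orderOf_dvd_of_pow_eq_one hzp)
      obtain ⟨m, hm⟩ := exists_pow_eq_self_of_coprime hcop
      conv_lhs => rw [← hm, ← conj_pow, h2, hm]
    · obtain ⟨q', hq', rfl⟩ : ∃ q' ∈ A, g * q' * g⁻¹ = q := by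
        obtain ⟨⟨i, j⟩, hij⟩ := hbij.2 ⟨q, hq⟩
        refine ⟨e0 (Multiplicative.ofAdd (u⁻¹ * i, u * j)), hr _, ?_⟩
        rw [hgd]
        have := congrArg Subtype.val hij
        rw [← mul_assoc, ← mul_assoc, mul_inv_cancel₀ hu, inv_mul_cancel₀ hu, one_mul, one_mul]
        exact this
      have := hconj _ (hy2 q' hq')
      convert this using 1
      group
  obtain ⟨y, hy⟩ := MulAction.exists_smul_eq Y ((g • P).subtype hPg) (P.subtype hPY)
  rw [Sylow.smul_subtype] at hy
  have hyP : ((y : G) • g • P : Sylow p G) = P := Sylow.subtype_injective hy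
  rw [← mul_smul, Sylow.smul_eq_iff_mem_normalizer] at hyP
  refine ⟨(y : G) * g, hyP, ?_, ?_⟩
  · rw [show (y : G) * g * z * ((y : G) * g)⁻¹ = y * (g * z * g⁻¹) * (y : G)⁻¹ by group, ez, ← conj_pow, y.2.1]
  · rw [show (y : G) * g * a * ((y : G) * g)⁻¹ = y * (g * a * g⁻¹) * (y : G)⁻¹ by group, ea]
    exact y.2.2 _ (pow_mem haA _)

/-- The shears come from the automorphisms of order `p`. -/
theorem shear_of_aut [Finite G] {A : Subgroup G} (hAcard : Nat.card A = p ^ 2) {z a : G} (hzp : z ^ p = 1) (hap : a ^ p = 1)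
    (hzA : z ∈ A) (haA : a ∈ A) (hz1 : z ≠ 1) (hna : a ∉ Subgroup.zpowers z) (hAc : a * z = z * a)
    (hSL : ∀ φ : MulAut A, orderOf φ = p → ∃ g : G, ∀ b : A, (φ b : G) = g * (b : G) * g⁻¹) :
    (∀ s : ZMod p, ∃ g : G, g * z * g⁻¹ = z ∧ g * a * g⁻¹ = a * z ^ s.val) ∧
    (∀ s : ZMod p, ∃ g : G, g * a * g⁻¹ = a ∧ g * z * g⁻¹ = z * a ^ s.val) := by
  classical
  obtain ⟨E, hE⟩ := exists_coords hAcard hzp hap hzA haA hz1 hna hAc
  haveI : Fact (1 < p) := ⟨hp.out.one_lt⟩
  let e0 : Multiplicative (ZMod p × ZMod p) →* G := A.subtype.comp E.toMonoidHom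
  have he0 : ∀ i j : ZMod p, e0 (Multiplicative.ofAdd (i, j)) = z ^ i.val * a ^ j.val := hE
  let T : (ZMod p × ZMod p → ZMod p × ZMod p) → Prop :=
    fun f => ∃ g : G, ∀ q, g * e0 (Multiplicative.ofAdd q) * g⁻¹ = e0 (Multiplicative.ofAdd (f q))
  have hshear : ∀ f : AddAut (ZMod p × ZMod p), (∀ q, (f : ZMod p × ZMod p → _)^[p] q = q) → (∃ q, f q ≠ q) → T f := by
    intro f hfp ⟨q0, hq0⟩
    let φ : MulAut A := E.symm.trans ((AddEquiv.toMultiplicative f).trans E)
    have hφ : ∀ q, φ (E (Multiplicative.ofAdd q)) = E (Multiplicative.ofAdd (f q)) := fun q => by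
      simp [φ]
    have hpow : ∀ (k : ℕ) q, (φ ^ k) (E (Multiplicative.ofAdd q)) = E (Multiplicative.ofAdd ((f : ZMod p × ZMod p → _)^[k] q)) := by
      intro k
      induction k with
      | zero => intro q; simp
      | succ k ih => intro q; rw [pow_succ', MulAut.mul_apply, ih, hφ, Function.iterate_succ_apply']
    have ho : orderOf φ = p := by
      refine orderOf_eq_prime (MulEquiv.ext fun b => ?_) fun h => hq0 ?_
      · obtain ⟨q, rfl⟩ := E.surjective b
        have := hpow p (Multiplicative.toAdd q)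
        rw [hfp] at this
        simpa using this
      · have := hφ q0
        rw [h, MulAut.one_apply] at this
        exact (Multiplicative.ofAdd.injective (E.injective this)).symm
    obtain ⟨g, hg⟩ := hSL φ ho
    refine ⟨g, fun q => ?_⟩
    have := hg (E (Multiplicative.ofAdd q))
    rw [hφ] at this
    exact this.symm
  let U : ZMod p → AddAut (ZMod p × ZMod p) := fun s =>
    { toFun := fun q => (q.1 + s * q.2, q.2)
      invFun := fun q => (q.1 - s * q.2, q.2)
      left_inv := fun q => by simp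
      right_inv := fun q => by simp
      map_add' := fun q r => by simp [mul_add]; ring }
  let L : ZMod p → AddAut (ZMod p × ZMod p) := fun s =>
    { toFun := fun q => (q.1, q.2 + s * q.1)
      invFun := fun q => (q.1, q.2 - s * q.1)
      left_inv := fun q => by simp
      right_inv := fun q => by simp
      map_add' := fun q r => by simp [mul_add]; ring }
  have hU : ∀ s, s ≠ 0 → T (U s) := fun s hs => hshear _ (fun q => by
      have : ∀ k : ℕ, (U s : ZMod p × ZMod p → _)^[k] q = (q.1 + k * (s * q.2), q.2) := by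
        intro k
        induction k with
        | zero => simp
        | succ k ih =>
          rw [Function.iterate_succ_apply', ih]
          simp [U]; ring
      rw [this, ZMod.natCast_self, zero_mul, add_zero]) ⟨(0, 1), fun h => hs (by simpa [U] using congrArg Prod.fst h)⟩
  have hL : ∀ s, s ≠ 0 → T (L s) := fun s hs => hshear _ (fun q => by
      have : ∀ k : ℕ, (L s : ZMod p × ZMod p → _)^[k] q = (q.1, q.2 + k * (s * q.1)) := by
        intro k
        induction k with
        | zero => simp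
        | succ k ih =>
          rw [Function.iterate_succ_apply', ih]
          simp [L]; ring
      rw [this, ZMod.natCast_self, zero_mul, add_zero]) ⟨(1, 0), fun h => hs (by simpa [L] using congrArg Prod.snd h)⟩
  constructor <;> intro s <;> rcases eq_or_ne s 0 with rfl | hs
  · exact ⟨1, by simp, by simp⟩
  · obtain ⟨g, hg⟩ := hU s hs
    have h1 := hg (1, 0)
    have h2 := hg (0, 1)
    simp [he0, U, ZMod.val_one] at h1 h2
    exact ⟨g, h1, h2.trans ((show Commute a z from hAc).pow_right _).eq.symm⟩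
  · exact ⟨1, by simp, by simp⟩
  · obtain ⟨g, hg⟩ := hL s hs
    have h1 := hg (1, 0)
    have h2 := hg (0, 1)
    simp [he0, L, ZMod.val_one] at h1 h2
    exact ⟨g, h2, h1⟩

end Group

section Final

variable {p : ℕ} [hp : Fact p.Prime] {Q : Type*} [CommGroup Q]

/-- Automorphisms of an elementary abelian group as linear maps. -/
def toEnd [Module (ZMod p) (Additive Q)] : MulAut Q →* Module.End (ZMod p) (Additive Q) where
  toFun f := (MonoidHom.toAdditive f.toMonoidHom).toZModLinearMap p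
  map_one' := LinearMap.ext fun _ => rfl
  map_mul' _ _ := LinearMap.ext fun _ => rfl

end Final

/-- Basic facts on an extraspecial group of order `p³` and exponent `p`. -/
theorem setup {G : Type*} [Group G] [Finite G] {p : ℕ} [Fact p.Prime] (P : Sylow p G) (hE : Cfsg.IsExtraspecial p ↥P)
    (hexp : Monoid.exponent ↥P = p) : ∃ z : G, orderOf z = p ∧ z ∈ (P : Subgroup G) ∧
      (∀ q ∈ (P : Subgroup G), q * z = z * q) ∧
      (∀ c : ↥(P : Subgroup G), c ∈ Subgroup.center ↥(P : Subgroup G) ↔ (c : G) ∈ Subgroup.zpowers z) ∧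
      (∀ q ∈ (P : Subgroup G), ∀ r ∈ (P : Subgroup G), ⁅q, r⁆ ∈ Subgroup.zpowers z) ∧
      (∀ q ∈ (P : Subgroup G), q ^ p = 1) := by
  have hpp : p.Prime := Fact.out
  obtain ⟨hspec0, hZcard0⟩ := hE
  have hspec : commutator ↥(P : Subgroup G) = Subgroup.center ↥(P : Subgroup G) := hspec0.2.2
  have hZcard : Nat.card (Subgroup.center ↥(P : Subgroup G)) = p := hZcard0
  have hexp0 : Monoid.exponent ↥(P : Subgroup G) = p := hexp
  obtain ⟨z0, hz0⟩ := exists_prime_orderOf_dvd_card' (G := Subgroup.center ↥(P : Subgroup G)) p (hZcard.symm ▸ dvd_refl p)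
  set z : G := ((z0 : ↥(P : Subgroup G)) : G) with hz
  have hzo : orderOf z = p := by rw [hz, Subgroup.orderOf_coe, Subgroup.orderOf_coe, hz0]
  have hzP : z ∈ (P : Subgroup G) := (z0 : ↥(P : Subgroup G)).2
  have hzc : ∀ q ∈ (P : Subgroup G), q * z = z * q := fun q hq =>
    congrArg Subtype.val (Subgroup.mem_center_iff.mp z0.2 ⟨q, hq⟩)
  have hz1 : z ≠ 1 := fun h => by rw [h, orderOf_one] at hzo; exact hpp.one_lt.ne hzo
  have hcenter : ∀ c : ↥(P : Subgroup G), c ∈ Subgroup.center ↥(P : Subgroup G) ↔ (c : G) ∈ Subgroup.zpowers z := by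
    intro c
    constructor
    · intro hc
      obtain ⟨j, hj⟩ := Subgroup.mem_zpowers_iff.mp (mem_zpowers_of_prime_card (p := p) hZcard (g := z0) (g' := ⟨c, hc⟩)
        (fun h => by rw [h, orderOf_one] at hz0; exact hpp.one_lt.ne hz0))
      exact Subgroup.mem_zpowers_iff.mpr ⟨j, congrArg (fun w : Subgroup.center ↥(P : Subgroup G) => ((w : ↥(P : Subgroup G)) : G)) hj⟩
    · intro hc
      obtain ⟨j, hj⟩ := Subgroup.mem_zpowers_iff.mp hc
      rw [show c = (z0 : ↥(P : Subgroup G)) ^ j from Subtype.ext (by rw [← hj, Subgroup.coe_zpow])]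
      exact zpow_mem z0.2 j
  have hPP : ∀ q ∈ (P : Subgroup G), ∀ r ∈ (P : Subgroup G), ⁅q, r⁆ ∈ Subgroup.zpowers z := fun q hq r hr =>
    (hcenter ⁅(⟨q, hq⟩ : ↥(P : Subgroup G)), ⟨r, hr⟩⁆).mp (by
      rw [← hspec]; exact Subgroup.commutator_mem_commutator (Subgroup.mem_top _) (Subgroup.mem_top _))
  have hexp' : ∀ q ∈ (P : Subgroup G), q ^ p = 1 := fun q hq => by
    have := Monoid.pow_exponent_eq_one (⟨q, hq⟩ : ↥(P : Subgroup G))
    rw [hexp0] at this
    exact congrArg Subtype.val this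
  exact ⟨z, hzo, hzP, hzc, hcenter, hPP, hexp'⟩

/-- The numerical consequence of sufficiently many maximal subgroups with all shears. -/
theorem torus_bound {G : Type*} [Group G] [Finite G] {p : ℕ} [Fact p.Prime] (P : Sylow p G)
    (hcard : Nat.card P = p ^ 3) {z : G} (hzo : orderOf z = p) (hzP : z ∈ (P : Subgroup G))
    (hzc : ∀ q ∈ (P : Subgroup G), q * z = z * q)
    (hcenter : ∀ c : ↥(P : Subgroup G), c ∈ Subgroup.center ↥(P : Subgroup G) ↔ (c : G) ∈ Subgroup.zpowers z)
    (hPP : ∀ q ∈ (P : Subgroup G), ∀ r ∈ (P : Subgroup G), ⁅q, r⁆ ∈ Subgroup.zpowers z)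
    (hexp' : ∀ q ∈ (P : Subgroup G), q ^ p = 1) {k' m' : ℕ} (hkm : 6 ≤ m' ∧ 3 ≤ k' ∨ 4 ≤ m' ∧ 14 ≤ k')
    (A : Fin k' → Subgroup G) (hA : Function.Injective A) (hAP : ∀ i, A i ≤ (P : Subgroup G))
    (hAcard : ∀ i, Nat.card ↥(A i) = p ^ 2) (hzA : ∀ i, z ∈ A i)
    (hSh : ∀ i, ∀ a ∈ A i, a ∉ Subgroup.zpowers z →
      (∀ s : ZMod p, ∃ g : G, g * z * g⁻¹ = z ∧ g * a * g⁻¹ = a * z ^ s.val) ∧
      (∀ s : ZMod p, ∃ g : G, g * a * g⁻¹ = a ∧ g * z * g⁻¹ = z * a ^ s.val))
    (hcon : ∀ j, 0 < j → j < m' → ¬ (p - 1) ∣ 3 * j) : False := by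
  classical
  have hpp : p.Prime := Fact.out
  have hz1 : z ≠ 1 := fun h => by rw [h, orderOf_one] at hzo; exact hpp.one_lt.ne hzo
  have hnotc : ∀ c : G, (∀ q ∈ (P : Subgroup G), q * c = c * q) → c ∈ (P : Subgroup G) → c ∈ Subgroup.zpowers z :=
    fun c h hc => (hcenter ⟨c, hc⟩).mp (Subgroup.mem_center_iff.mpr fun q => Subtype.ext (h q q.2))
  have hZcard : Nat.card (Subgroup.center ↥(P : Subgroup G)) = p := by
    refine Eq.trans ?_ ((Nat.card_zpowers z).trans hzo)
    exact Nat.card_congr ⟨fun c => ⟨c.1.1, (hcenter c.1).mp c.2⟩,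
      fun c => ⟨⟨c.1, Subgroup.zpowers_le.mpr hzP c.2⟩, (hcenter _).mpr c.2⟩, fun c => rfl, fun c => rfl⟩
  have hex : ∀ i, ∃ a ∈ A i, a ∉ Subgroup.zpowers z := fun i => by
    by_contra! h
    have := Subgroup.card_le_of_le (show A i ≤ Subgroup.zpowers z from h)
    rw [hAcard, Nat.card_zpowers, hzo] at this
    nlinarith [hpp.two_le]
  choose a haA hna using hex
  -- a generator of the units
  haveI : IsCyclic (ZMod p)ˣ := inferInstance
  obtain ⟨t, ht⟩ := IsCyclic.exists_ofOrder_eq_natCard (α := (ZMod p)ˣ)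
  rw [Nat.card_eq_fintype_card, ZMod.card_units] at ht
  choose n hnN hnz hna' using fun i => exists_torus P (hAP i) (hAcard i) hexp' (hzA i) (haA i) hz1 (hna i) hzc hPP
    (hzc _ (hAP i (haA i))) (hSh i (a i) (haA i) (hna i)).1 (hSh i (a i) (haA i) (hna i)).2 (u := (t : ZMod p)) t.ne_zero
  -- the action on `P / Z(P)`
  let Qt := ↥(P : Subgroup G) ⧸ Subgroup.center ↥(P : Subgroup G)
  have hQcomm : ∀ x y : Qt, x * y = y * x := by
      intro x y
      obtain ⟨q, rfl⟩ := QuotientGroup.mk_surjective x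
      obtain ⟨r, rfl⟩ := QuotientGroup.mk_surjective y
      rw [← QuotientGroup.mk_mul, ← QuotientGroup.mk_mul, QuotientGroup.eq, hcenter]
      have := hPP _ (inv_mem r.2) _ (inv_mem q.2)
      rw [show (((q * r)⁻¹ * (r * q) : ↥(P : Subgroup G)) : G) = ⁅(r : G)⁻¹, (q : G)⁻¹⁆ by
        push_cast; rw [commutatorElement_def]; group]
      exact this
  letI : CommGroup Qt := { (inferInstance : Group Qt) with mul_comm := hQcomm }
  have hQexp : ∀ q : Qt, q ^ p = 1 := fun q => by
    induction q using QuotientGroup.induction_on with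
    | _ q =>
      rw [← QuotientGroup.mk_pow, show q ^ p = 1 from Subtype.ext (by rw [Subgroup.coe_pow]; exact hexp' q q.2)]
      rfl
  have hQadd : ∀ q : Additive Qt, p • q = 0 := fun q => congrArg Additive.ofMul (hQexp (Additive.toMul q))
  obtain ⟨instM⟩ : Nonempty (Module (ZMod p) (Additive Qt)) := ⟨AddCommGroup.zmodModule hQadd⟩
  haveI : Finite (Additive Qt) := Finite.of_equiv Qt Additive.ofMul
  haveI : Module.Finite (ZMod p) (Additive Qt) := Module.Finite.of_finite
  have hrank : Module.finrank (ZMod p) (Additive Qt) = 2 := by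
    have h1 := Module.natCard_eq_pow_finrank (K := ZMod p) (V := Additive Qt)
    have h2 := Subgroup.card_eq_card_quotient_mul_card_subgroup (Subgroup.center ↥(P : Subgroup G))
    rw [hZcard, hcard] at h2
    have h3 : Nat.card Qt = p ^ 2 := Nat.eq_of_mul_eq_mul_right hpp.pos (by rw [← h2]; ring)
    rw [Nat.card_zmod, show Nat.card (Additive Qt) = Nat.card Qt from Nat.card_congr Additive.toMul, h3] at h1
    exact (Nat.pow_right_injective hpp.two_le h1).symm
  let b := Module.finBasisOfFinrankEq (ZMod p) (Additive Qt) hrank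
  let K := AlgebraicClosure (ZMod p)
  haveI : CharP K p := charP_of_injective_algebraMap (algebraMap (ZMod p) K).injective p
  let ρ : Subgroup.normalizer ((P : Subgroup G) : Set G) →* MulAut Qt :=
    { toFun := fun m => QuotientGroup.congr _ _ ((P : Subgroup G).normalizerMonoidHom m)
        (Subgroup.characteristic_iff_map_eq.mp inferInstance _)
      map_one' := MulEquiv.ext fun x => by
        induction x using QuotientGroup.induction_on with
        | _ w => simp
      map_mul' := fun m m' => MulEquiv.ext fun x => by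
        induction x using QuotientGroup.induction_on with
        | _ w => simp; rfl }
  have hρ : ∀ (m : Subgroup.normalizer ((P : Subgroup G) : Set G)) (q : ↥(P : Subgroup G)) (r : ↥(P : Subgroup G)),
      ((r : G))⁻¹ * (m * q * (m : G)⁻¹) ∈ Subgroup.zpowers z → ρ m (QuotientGroup.mk q) = QuotientGroup.mk r := by
    intro m q r h
    show QuotientGroup.mk ((P : Subgroup G).normalizerMonoidHom m q) = QuotientGroup.mk r
    rw [eq_comm, QuotientGroup.eq, hcenter]
    exact h
  set W := ρ.range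
  haveI : Finite W := Finite.of_surjective _ ρ.rangeRestrict_surjective
  have hW : (Nat.card W).Coprime p := by
    refine Nat.Coprime.symm (hpp.coprime_iff_not_dvd.mpr fun hdvd => ?_)
    rw [← Subgroup.index_ker] at hdvd
    have hker : (P : Subgroup G).subgroupOf (Subgroup.normalizer ((P : Subgroup G) : Set G)) ≤ ρ.ker := fun m hm =>
      MulEquiv.ext fun x => by
        induction x using QuotientGroup.induction_on with
        | _ w =>
          refine hρ m w w ?_
          rw [show (w : G)⁻¹ * (m * w * (m : G)⁻¹) = ⁅(w : G)⁻¹, (m : G)⁆ by rw [commutatorElement_def]; group]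
          exact hPP _ (inv_mem w.2) _ hm
    exact P.not_dvd_index ((hdvd.trans (Subgroup.index_dvd_of_le hker)).trans
      ((dvd_of_eq rfl).trans (Subgroup.relIndex_dvd_index_of_le Subgroup.le_normalizer)))
  let M : W →* Matrix (Fin 2) (Fin 2) K :=
    (RingHom.mapMatrix (algebraMap (ZMod p) K)).toMonoidHom.comp
      ((LinearMap.toMatrixAlgEquiv b).toAlgHom.toRingHom.toMonoidHom.comp ((toEnd (p := p) (Q := Qt)).comp W.subtype))
  let vec : ↥(P : Subgroup G) → Fin 2 → K := fun q i =>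
    algebraMap (ZMod p) K (b.repr (Additive.ofMul (QuotientGroup.mk q : Qt)) i)
  have hMv : ∀ (m : Subgroup.normalizer ((P : Subgroup G) : Set G)) (q r : ↥(P : Subgroup G)) (k : ℕ),
      ((r ^ k : ↥(P : Subgroup G)) : G)⁻¹ * (m * q * (m : G)⁻¹) ∈ Subgroup.zpowers z →
      (M (ρ.rangeRestrict m)).mulVec (vec q) = (k : K) • vec r := by
    intro m q r k h
    funext i
    have h1 := hρ m q (r ^ k) h
    show ((LinearMap.toMatrix b b (toEnd (p := p) (Q := Qt) (ρ m))).map (algebraMap (ZMod p) K)).mulVec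
      (algebraMap (ZMod p) K ∘ (b.repr (Additive.ofMul (QuotientGroup.mk q : Qt)))) i = _
    rw [← RingHom.map_mulVec, LinearMap.toMatrix_mulVec_repr,
      show toEnd (p := p) (Q := Qt) (ρ m) (Additive.ofMul (QuotientGroup.mk q : Qt)) = k • Additive.ofMul (QuotientGroup.mk r : Qt) from
        (congrArg Additive.ofMul h1).trans (by rw [QuotientGroup.mk_pow, ofMul_pow]), map_nsmul]
    simp [vec, nsmul_eq_mul]
  have hvec0 : ∀ q : ↥(P : Subgroup G), (q : G) ∉ Subgroup.zpowers z → vec q ≠ 0 := by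
    intro q hq h
    apply hq
    rw [← hcenter]
    refine (QuotientGroup.eq_one_iff q).mp (Additive.ofMul.injective (b.repr.injective (Finsupp.ext fun i => ?_)))
    rw [ofMul_one, map_zero, Finsupp.coe_zero, Pi.zero_apply]
    exact (algebraMap (ZMod p) K).injective ((congrFun h i).trans (map_zero _).symm)
  have hvec_eq : ∀ (q r : ↥(P : Subgroup G)) (c : ZMod p), vec q = algebraMap (ZMod p) K c • vec r →
      (r ^ c.val : ↥(P : Subgroup G)).1⁻¹ * q.1 ∈ Subgroup.zpowers z := by
    intro q r c h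
    have h1 : Additive.ofMul (QuotientGroup.mk q : Qt) = Additive.ofMul (QuotientGroup.mk (r ^ c.val) : Qt) := by
      refine b.repr.injective (Finsupp.ext fun i => (algebraMap (ZMod p) K).injective ((congrFun h i).trans ?_))
      rw [QuotientGroup.mk_pow, ofMul_pow, map_nsmul, Finsupp.smul_apply, nsmul_eq_mul, map_mul, map_natCast,
        Pi.smul_apply, smul_eq_mul]
      congr 1
      rw [← map_natCast (algebraMap (ZMod p) K), ZMod.natCast_zmod_val]
    have h2 := (QuotientGroup.eq.mp (Additive.ofMul.injective h1).symm)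
    rw [hcenter] at h2
    exact h2
  let ai : Fin k' → ↥(P : Subgroup G) := fun i => ⟨a i, hAP i (haA i)⟩
  refine false_of_lines (p := p) hW M hkm (fun i => vec (ai i)) (fun i => hvec0 _ (hna i)) ?_
    (fun i => ρ.rangeRestrict ⟨n i, hnN i⟩) (fun i => ⟨_, hMv ⟨n i, hnN i⟩ (ai i) (ai i) ((t : ZMod p)⁻¹).val ?_⟩) ?_
  · -- distinct lines
    intro i j hij
    by_contra hne
    have hij' : (K ∙ vec (ai i)) = K ∙ vec (ai j) := hij
    obtain ⟨c, hc⟩ := Submodule.mem_span_singleton.mp
      (show vec (ai i) ∈ K ∙ vec (ai j) by rw [← hij']; exact Submodule.mem_span_singleton_self _)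
    obtain ⟨k, hk⟩ : ∃ k, vec (ai j) k ≠ 0 := Function.ne_iff.mp (hvec0 _ (hna j))
    have hck : c = vec (ai i) k / vec (ai j) k := by
      rw [eq_div_iff hk, ← congrFun hc k]; rfl
    set c0 : ZMod p := b.repr (Additive.ofMul (QuotientGroup.mk (ai i) : Qt)) k / b.repr (Additive.ofMul (QuotientGroup.mk (ai j) : Qt)) k with hc0
    have hcc : c = algebraMap (ZMod p) K c0 := by rw [hck, hc0, map_div₀]
    have hmem : a i ∈ A j := by
      have h1 := hvec_eq (ai i) (ai j) c0 (by rw [← hcc, hc])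
      have h2 : ((ai j ^ c0.val : ↥(P : Subgroup G)) : G)⁻¹ * a i ∈ A j := Subgroup.zpowers_le.mpr (hzA j) h1
      have h3 := mul_mem (pow_mem (haA j) c0.val) h2
      simpa [ai] using h3
    refine hne (hA ?_)
    have hinf : A i ⊓ A j = A i := by
      refine Subgroup.eq_of_le_of_card_ge inf_le_left ?_
      obtain ⟨e, -, he⟩ := (Nat.dvd_prime_pow hpp).mp (hAcard i ▸ Subgroup.card_dvd_of_le (inf_le_left : A i ⊓ A j ≤ A i))
      have hlt : Nat.card (Subgroup.zpowers z) < Nat.card (A i ⊓ A j : Subgroup G) := by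
        refine lt_of_le_of_ne (Subgroup.card_le_of_le (le_inf (Subgroup.zpowers_le.mpr (hzA i)) (Subgroup.zpowers_le.mpr (hzA j)))) fun h => ?_
        exact hna i ((Subgroup.eq_of_le_of_card_ge (le_inf (Subgroup.zpowers_le.mpr (hzA i)) (Subgroup.zpowers_le.mpr (hzA j))) h.ge).ge ⟨haA i, hmem⟩)
      rw [Nat.card_zpowers, hzo, he] at hlt
      have h2 : 1 < e := (Nat.pow_lt_pow_iff_right hpp.one_lt).mp (by rwa [pow_one])
      rw [he, hAcard]
      exact Nat.pow_le_pow_right hpp.pos h2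
    exact Subgroup.eq_of_le_of_card_ge (inf_eq_left.mp hinf) (by rw [hAcard, hAcard])
  · exact hna' i
  · -- no small power is scalar
    rintro i k hk0 hk6 ⟨c, hc⟩
    set m : Subgroup.normalizer ((P : Subgroup G) : Set G) := ⟨n i, hnN i⟩
    set v : ZMod p := (t : ZMod p)⁻¹ with hv
    have hnormz : ∀ w ∈ Subgroup.zpowers z, n i * w * (n i)⁻¹ ∈ Subgroup.zpowers z := by
      intro w hw
      obtain ⟨j, rfl⟩ := Subgroup.mem_zpowers_iff.mp hw
      rw [← conj_zpow, hnz i]
      exact zpow_mem (pow_mem (Subgroup.mem_zpowers z) _) j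
    have hnk : ∀ j : ℕ, (n i) ^ j * z * ((n i) ^ j)⁻¹ = z ^ ((t : ZMod p).val ^ j) ∧
        (a i ^ (v.val ^ j))⁻¹ * ((n i) ^ j * a i * ((n i) ^ j)⁻¹) ∈ Subgroup.zpowers z := by
      intro j
      induction j with
      | zero => simp
      | succ j ih =>
        constructor
        · rw [pow_succ' (n i) j, show n i * n i ^ j * z * (n i * n i ^ j)⁻¹ = n i * (n i ^ j * z * (n i ^ j)⁻¹) * (n i)⁻¹ by group,
            ih.1, ← conj_pow, hnz i, ← pow_mul, pow_succ']
        · have h1 := hnormz _ ih.2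
          rw [show n i * ((a i ^ v.val ^ j)⁻¹ * (n i ^ j * a i * (n i ^ j)⁻¹)) * (n i)⁻¹ =
            (n i * a i ^ v.val ^ j * (n i)⁻¹)⁻¹ * (n i ^ (j + 1) * a i * (n i ^ (j + 1))⁻¹) by rw [pow_succ' (n i) j]; group,
            ← conj_pow] at h1
          obtain ⟨w, hw, hw'⟩ : ∃ w ∈ Subgroup.zpowers z, n i * a i * (n i)⁻¹ = a i ^ v.val * w :=
            ⟨_, hna' i, by rw [mul_inv_cancel_left]⟩
          have hcw : Commute (a i ^ v.val) w := by
            obtain ⟨e, rfl⟩ := Subgroup.mem_zpowers_iff.mp hw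
            exact (show Commute (a i) z from hzc _ (hAP i (haA i))).pow_left _ |>.zpow_right e
          rw [hw', hcw.mul_pow, ← pow_mul, ← pow_succ', mul_inv_rev, mul_assoc] at h1
          have h2 := mul_mem (pow_mem hw (v.val ^ j)) h1
          rwa [mul_inv_cancel_left] at h2
    obtain ⟨hkz, hka⟩ := hnk k
    have hrange : (ρ.rangeRestrict m) ^ k = ρ.rangeRestrict (m ^ k) := (map_pow _ _ _).symm
    have hca : c = ((v.val ^ k : ℕ) : K) := by
      have h1 := hMv (m ^ k) (ai i) (ai i) (v.val ^ k) (by simpa [m, ai] using hka)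
      rw [← hrange, hc] at h1
      obtain ⟨l, hl⟩ : ∃ l, vec (ai i) l ≠ 0 := Function.ne_iff.mp (hvec0 _ (hna i))
      have h2 := congrFun h1 l
      simp only [Pi.smul_apply, smul_eq_mul] at h2
      exact mul_right_cancel₀ hl h2
    obtain ⟨x, hxP, hxA⟩ : ∃ x ∈ (P : Subgroup G), x ∉ A i := by
      by_contra! h
      have := Subgroup.card_le_of_le (show (P : Subgroup G) ≤ A i from h)
      rw [hAcard, hcard] at this
      exact absurd this (Nat.not_le.mpr (Nat.pow_lt_pow_right hpp.one_lt (by norm_num)))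
    let xi : ↥(P : Subgroup G) := ⟨x, hxP⟩
    let yi : ↥(P : Subgroup G) := ⟨(n i) ^ k * x * ((n i) ^ k)⁻¹, (Subgroup.mem_normalizer_iff.mp (pow_mem (hnN i) k) x).mp hxP⟩
    set V := ((v.val ^ k : ℕ) : ZMod p) with hV
    have hxk : (xi ^ V.val : ↥(P : Subgroup G)).1⁻¹ * yi.1 ∈ Subgroup.zpowers z := by
      refine hvec_eq yi xi V ?_
      have h1 := hMv (m ^ k) xi yi 1 (by simp [m, xi, yi, mul_assoc])
      rw [← hrange, hc, Nat.cast_one, one_smul] at h1
      rw [← h1, hV, map_natCast, hca]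
    -- bilinearity of the commutator
    set cc := ⁅a i, x⁆ with hcc
    have hccZ : cc ∈ Subgroup.zpowers z := hPP _ (hAP i (haA i)) _ hxP
    obtain ⟨e, he⟩ := Subgroup.mem_zpowers_iff.mp hccZ
    have hzcomm : ∀ q ∈ (P : Subgroup G), ∀ w ∈ Subgroup.zpowers z, q * w = w * q := by
      intro q hq w hw
      obtain ⟨j, rfl⟩ := Subgroup.mem_zpowers_iff.mp hw
      exact ((show Commute q z from hzc q hq).zpow_right j).eq
    have hcc1 : cc ≠ 1 := by
      intro h
      refine hna i (hnotc (a i) (fun q hq => ?_) (hAP i (haA i)))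
      have hAc : IsMulCommutative (A i) := IsPGroup.isMulCommutative_of_card_eq_prime_sq (hAcard i)
      have htop : A i ⊔ Subgroup.zpowers x = (P : Subgroup G) := by
        have hle : A i ⊔ Subgroup.zpowers x ≤ (P : Subgroup G) := sup_le (hAP i) (Subgroup.zpowers_le.mpr hxP)
        refine Subgroup.eq_of_le_of_card_ge hle ?_
        obtain ⟨e', -, he'⟩ := (Nat.dvd_prime_pow hpp).mp (hcard ▸ Subgroup.card_dvd_of_le hle)
        have h3 : Nat.card (A i) < Nat.card (A i ⊔ Subgroup.zpowers x : Subgroup G) :=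
          lt_of_le_of_ne (Subgroup.card_le_of_le le_sup_left) fun h => hxA
            ((Subgroup.eq_of_le_of_card_ge le_sup_left h.ge).ge (Subgroup.mem_sup_right (Subgroup.mem_zpowers x)))
        rw [hAcard, he'] at h3
        rw [he', hcard]
        exact Nat.pow_le_pow_right hpp.pos ((Nat.pow_lt_pow_iff_right hpp.one_lt).mp h3)
      have hle' : A i ⊔ Subgroup.zpowers x ≤ Subgroup.centralizer ({a i} : Set G) := by
        refine sup_le (fun c hc => ?_) (Subgroup.zpowers_le.mpr ?_)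
        · exact Subgroup.mem_centralizer_singleton_iff.mpr (congrArg Subtype.val (hAc.is_comm.comm (⟨c, hc⟩ : A i) ⟨a i, haA i⟩))
        · exact Subgroup.mem_centralizer_singleton_iff.mpr (commutatorElement_eq_one_iff_commute.mp h).eq.symm
      exact Subgroup.mem_centralizer_singleton_iff.mp (hle' (htop.symm ▸ hq))
    have hcco : orderOf cc = p := orderOf_eq_prime (hexp' _ (Subgroup.zpowers_le.mpr hzP hccZ)) hcc1
    obtain ⟨w1, hw1, hw1'⟩ : ∃ w ∈ Subgroup.zpowers z, (n i) ^ k * a i * ((n i) ^ k)⁻¹ = a i ^ v.val ^ k * w :=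
      ⟨_, hka, by rw [mul_inv_cancel_left]⟩
    obtain ⟨w2, hw2, hw2'⟩ : ∃ w ∈ Subgroup.zpowers z, (n i) ^ k * x * ((n i) ^ k)⁻¹ = x ^ V.val * w :=
      ⟨_, hxk, by simp [xi, yi]⟩
    have hax : a i * x = cc * (x * a i) := by rw [hcc, commutatorElement_def]; group
    have hform := comm_pow_formula hax (hzcomm _ (hAP i (haA i)) _ hccZ).symm (hzcomm _ hxP _ hccZ).symm (v.val ^ k) V.val
    have hlhs : (n i) ^ k * cc * ((n i) ^ k)⁻¹ = cc ^ ((t : ZMod p).val ^ k) := by
      rw [← he, ← conj_zpow, hkz, ← zpow_natCast, ← zpow_mul, mul_comm, zpow_mul, zpow_natCast]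
    have hrhs : (n i) ^ k * cc * ((n i) ^ k)⁻¹ = cc ^ (v.val ^ k * V.val) := by
      rw [hcc, show (n i) ^ k * ⁅a i, x⁆ * ((n i) ^ k)⁻¹ = ⁅(n i) ^ k * a i * ((n i) ^ k)⁻¹, (n i) ^ k * x * ((n i) ^ k)⁻¹⁆ by
        simp only [commutatorElement_def]; group, hw1', hw2', commutatorElement_def, ← hcc]
      have hA' := pow_mem (hAP i (haA i)) (v.val ^ k)
      have hX' := pow_mem hxP V.val
      have e1 : Commute w1 (x ^ V.val) := (hzcomm _ hX' _ hw1).symm
      have e2 : Commute w2 ((a i ^ v.val ^ k)⁻¹) := (hzcomm _ (inv_mem hA') _ hw2).symm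
      have e3 : Commute w1 w2 := (hzcomm _ (Subgroup.zpowers_le.mpr hzP hw1) _ hw2)
      calc a i ^ v.val ^ k * w1 * (x ^ V.val * w2) * (a i ^ v.val ^ k * w1)⁻¹ * (x ^ V.val * w2)⁻¹
          = a i ^ v.val ^ k * (w1 * x ^ V.val) * (w2 * w1⁻¹) * (a i ^ v.val ^ k)⁻¹ * w2⁻¹ * (x ^ V.val)⁻¹ := by group
        _ = a i ^ v.val ^ k * x ^ V.val * (w1 * (w1⁻¹ * w2)) * (a i ^ v.val ^ k)⁻¹ * w2⁻¹ * (x ^ V.val)⁻¹ := by
            rw [e1.eq, e3.inv_left.eq.symm]; group
        _ = a i ^ v.val ^ k * x ^ V.val * (w2 * (a i ^ v.val ^ k)⁻¹) * w2⁻¹ * (x ^ V.val)⁻¹ := by rw [mul_inv_cancel_left]; group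
        _ = a i ^ v.val ^ k * x ^ V.val * (a i ^ v.val ^ k)⁻¹ * (x ^ V.val)⁻¹ := by rw [e2.eq]; group
        _ = _ := by rw [hform]; group
    have heq := hlhs.symm.trans hrhs
    rw [pow_eq_pow_iff_modEq, hcco, ← ZMod.natCast_eq_natCast_iff] at heq
    push_cast at heq
    rw [ZMod.natCast_zmod_val, ZMod.natCast_zmod_val, ZMod.natCast_zmod_val, hV, Nat.cast_pow, ZMod.natCast_zmod_val] at heq
    have h3k : (t : ZMod p) ^ (3 * k) = 1 := by
      have hvt : v * (t : ZMod p) = 1 := inv_mul_cancel₀ t.ne_zero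
      calc (t : ZMod p) ^ (3 * k) = (t : ZMod p) ^ k * ((t : ZMod p) ^ k * (t : ZMod p) ^ k) := by ring
        _ = (v ^ k * v ^ k) * ((t : ZMod p) ^ k * (t : ZMod p) ^ k) := by rw [← heq]
        _ = (v * t) ^ k * (v * t) ^ k := by ring
        _ = 1 := by rw [hvt, one_pow, one_mul]
    have h4 : t ^ (3 * k) = 1 := Units.ext (by rw [Units.val_pow_eq_pow_val]; exact h3k)
    exact hcon k hk0 hk6 (ht ▸ orderOf_dvd_of_pow_eq_one h4)

end Cfsg.Agent.Extra3Torus
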